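import Groth.Agent.GenSmooth5.Target
import Groth.Agent.GrpSchLib.Action
import Groth.Agent.Synt29.FibreLocal
import Groth.Agent.S0353
import Groth.Agent.FibDim.RelDim

/-!
# Equivariant morphisms to homogeneous spaces and dimensions, for Kleiman transversality
-/

set_option autoImplicit false
set_option linter.style.haveILetI false
set_option backward.isDefEq.respectTransparency false
set_option backward.isDefEq.respectTransparency.types false

universe u

open CategoryTheory CategoryTheory.Limits MonoidalCategory CartesianMonoidalCategory MonObj GrpObj AlgebraicGeometry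

namespace Groth.Agent.Kleiman5

/-- The map `(g, y) ↦ g · f(y)`. -/
noncomputable def sweep {S : Scheme.{u}} {G X : Over S} [GrpObj G] (a : AlgGrp.Action G X) {Y : Over S}
    (fo : Y ⟶ X) : G ⊗ Y ⟶ X := (G ◁ fo) ≫ a.act

theorem lift_sweep {S : Scheme.{u}} {G X : Over S} [GrpObj G] (a : AlgGrp.Action G X) {Y : Over S}
    (fo : Y ⟶ X) {T : Over S} (g : T ⟶ G) (y : T ⟶ Y) :
    lift g y ≫ sweep a fo = lift g (y ≫ fo) ≫ a.act := by
  rw [sweep, ← Category.assoc, lift_whiskerLeft]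

theorem exists_translate {S : Scheme.{u}} {G X : Over S} [GrpObj G] (a : AlgGrp.Action G X) {Y : Over S}
    (fo : Y ⟶ X) (c s : 𝟙_ (Over S) ⟶ G) (y : 𝟙_ (Over S) ⟶ Y) :
    ∃ (L : G ⊗ Y ≅ G ⊗ Y) (T : X ≅ X), L.hom ≫ sweep a fo = sweep a fo ≫ T.hom ∧
      lift c y ≫ L.hom = lift s y := by
  let L : (𝟙_ (Over S) ⟶ G) → (G ⊗ Y ⟶ G ⊗ Y) := fun g =>
    lift ((toUnit (G ⊗ Y) ≫ g) * fst G Y) (snd G Y)
  let T : (𝟙_ (Over S) ⟶ G) → (X ⟶ X) := fun g => lift (toUnit X ≫ g) (𝟙 X) ≫ a.act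
  have hL : ∀ g h, L g ≫ L h = L (h * g) := fun g h => by
    simp only [L, comp_lift, lift_snd, MonObj.comp_mul, lift_fst, comp_toUnit_assoc]
    rw [_root_.mul_assoc]
  have hT : ∀ g h, T g ≫ T h = T (h * g) := fun g h => by
    simp only [T]
    rw [← Category.assoc, comp_lift, Category.comp_id, comp_toUnit_assoc, GrpSchLib.act_mul, MonObj.comp_mul]
  have hL1 : L 1 = 𝟙 (G ⊗ Y) := by simp [L]
  have hT1 : T 1 = 𝟙 X := by simp [T, GrpSchLib.act_one]
  have hw : (G ◁ fo) = lift (fst G Y) (snd G Y ≫ fo) := by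
    apply CartesianMonoidalCategory.hom_ext <;> simp
  refine ⟨⟨L (s * c⁻¹), L (s * c⁻¹)⁻¹, by rw [hL, inv_mul_cancel, hL1], by rw [hL, mul_inv_cancel, hL1]⟩,
    ⟨T (s * c⁻¹), T (s * c⁻¹)⁻¹, by rw [hT, inv_mul_cancel, hT1], by rw [hT, mul_inv_cancel, hT1]⟩, ?_, ?_⟩
  · simp only [L, T]
    rw [lift_sweep, ← Category.assoc (sweep a fo), comp_lift, Category.comp_id, comp_toUnit_assoc]
    conv_rhs => rw [sweep, hw, GrpSchLib.act_mul]
  · simp only [L]
    rw [comp_lift, lift_snd, MonObj.comp_mul, lift_fst, comp_toUnit_assoc,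
      Subsingleton.elim (toUnit (𝟙_ (Over S))) (𝟙 _), Category.id_comp, inv_mul_cancel_right]

theorem smoothLocus_comp_iso {A B C : Scheme.{u}} (φ : A ⟶ B) [LocallyOfFinitePresentation φ] (T : B ⟶ C) [IsIso T]
    (z : A) : z ∈ (φ ≫ T).smoothLocus ↔ z ∈ φ.smoothLocus := by
  rw [← Synt29.FibreLocal.exists_smooth_iff, ← Synt29.FibreLocal.exists_smooth_iff]
  refine exists_congr fun U => and_congr_right fun _ => ?_
  rw [← Category.assoc]
  exact MorphismProperty.cancel_right_of_respectsIso @Smooth _ T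

theorem exists_rat_pt {k : Type u} [Field k] [IsAlgClosed k] (W : Over (Spec (CommRingCat.of k)))
    [LocallyOfFiniteType W.hom] {c : W.left} (hc : IsClosed ({c} : Set W.left)) :
    ∃ p : 𝟙_ (Over (Spec (CommRingCat.of k))) ⟶ W, p.left (IsLocalRing.closedPoint k) = c :=
  ⟨Over.homMk ((pointEquivClosedPoint W.hom).symm ⟨c, hc⟩).1 ((pointEquivClosedPoint W.hom).symm ⟨c, hc⟩).2,
    congrArg Subtype.val ((pointEquivClosedPoint W.hom).apply_symm_apply ⟨c, hc⟩)⟩

section

variable {k : Type u} [Field k] [IsAlgClosed k] [CharZero k]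
    {G X : Over (Spec (CommRingCat.of k))} [GrpObj G] (a : AlgGrp.Action G X)
    [LocallyOfFiniteType G.hom] [QuasiCompact G.hom]
    [IsIntegral X.left] [IsSeparated X.hom] [LocallyOfFiniteType X.hom] [QuasiCompact X.hom]
    {Y : Over (Spec (CommRingCat.of k))} (fo : Y ⟶ X) [Smooth Y.hom] [QuasiCompact Y.hom]

omit [GrpObj G] [IsAlgClosed k] [CharZero k] [LocallyOfFiniteType G.hom] in
theorem smooth_tensor_hom [Smooth G.hom] :
    Smooth (G ⊗ Y).hom ∧ QuasiCompact (G ⊗ Y).hom := by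
  constructor
  · show Smooth (pullback.fst G.hom Y.hom ≫ G.hom); infer_instance
  · show QuasiCompact (pullback.fst G.hom Y.hom ≫ G.hom); infer_instance

/-- The sweep of a smooth variety in a homogeneous space is smooth. -/
theorem smooth_sweep
    (htrans : ∀ x x' : 𝟙_ (Over (Spec (CommRingCat.of k))) ⟶ X,
      ∃ σ : 𝟙_ (Over (Spec (CommRingCat.of k))) ⟶ G, CartesianMonoidalCategory.lift σ x ≫ a.act = x') :
    Smooth (sweep a fo).left := by
  haveI : Smooth G.hom := S0353.result k G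
  obtain ⟨_, _⟩ := smooth_tensor_hom (G := G) (Y := Y)
  set φ := sweep a fo
  haveI : LocallyOfFiniteType (φ.left ≫ X.hom) := by rw [Over.w φ]; infer_instance
  haveI : LocallyOfFiniteType φ.left := locallyOfFiniteType_of_comp φ.left X.hom
  haveI : IsLocallyNoetherian X.left := LocallyOfFiniteType.isLocallyNoetherian X.hom
  haveI : LocallyOfFinitePresentation φ.left := inferInstance
  obtain ⟨V, hVne, hV⟩ := GenSmooth5.exists_open_smooth_preimage (G ⊗ Y).hom X.hom φ.left (Over.w φ)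
  haveI := hV
  have hVO : φ.left ⁻¹ᵁ V ≤ φ.left.smoothLocus := fun z hz =>
    (Synt29.FibreLocal.exists_smooth_iff φ.left z).1
      ⟨φ.left ⁻¹ᵁ V, hz, by rw [← morphismRestrict_ι]; infer_instance⟩
  haveI : JacobsonSpace X.left := LocallyOfFiniteType.jacobsonSpace X.hom
  haveI : JacobsonSpace (G ⊗ Y).left := LocallyOfFiniteType.jacobsonSpace (G ⊗ Y).hom
  obtain ⟨x', hx'V, hx'⟩ := nonempty_inter_closedPoints hVne V.2.isLocallyClosed
  obtain ⟨px', hpx'⟩ := exists_rat_pt X hx'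
  rw [← Scheme.Hom.smoothLocus_eq_top_iff, ← TopologicalSpace.Opens.coe_eq_univ, ← not_ne_iff,
    ← Set.nonempty_compl]
  intro H
  obtain ⟨c, hc, hcc⟩ := nonempty_inter_closedPoints H φ.left.smoothLocus.2.isClosed_compl.isLocallyClosed
  obtain ⟨p, hp⟩ := exists_rat_pt (G ⊗ Y) hcc
  obtain ⟨s, hs⟩ := htrans ((p ≫ snd G Y) ≫ fo) px'
  obtain ⟨L, T, hLT, hcL⟩ := exists_translate a fo (p ≫ fst G Y) s (p ≫ snd G Y)
  haveI : IsIso L.hom.left := ((Over.forget _).mapIso L).isIso_hom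
  haveI : IsIso T.hom.left := ((Over.forget _).mapIso T).isIso_hom
  have hsp : lift (p ≫ fst G Y) (p ≫ snd G Y) = p := by rw [← comp_lift]; simp
  rw [hsp] at hcL
  have h3 : (p ≫ L.hom) ≫ φ = px' := by rw [hcL, lift_sweep, hs]
  have h1 : φ.left (L.hom.left c) = x' := by
    rw [← hp, ← hpx']
    exact congrArg (fun e : 𝟙_ (Over (Spec (CommRingCat.of k))) ⟶ X => e.left (IsLocalRing.closedPoint k)) h3
  apply hc
  refine (smoothLocus_comp_iso φ.left T.hom.left c).1 ?_
  have h2 : φ.left ≫ T.hom.left = L.hom.left ≫ φ.left := (congrArg CommaMorphism.left hLT).symm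
  rw! [h2]
  rw [← Scheme.Hom.preimage_smoothLocus_eq, Scheme.Hom.mem_preimage]
  exact hVO (show φ.left (L.hom.left c) ∈ V by rw [h1]; exact hx'V)

end

section Dim

open FibDim

theorem exists_fibreDim {A B : Scheme.{u}} (f : A ⟶ B) [LocallyOfFiniteType f] (x : A) :
    ∃ m : ℕ, FlatMor.fibreDimAt f x = (m : WithBot ℕ∞) := by
  obtain ⟨z, -, -, -, he⟩ := exists_fibMax_generization f x
  exact ⟨rd f z, he⟩

theorem dim_univ_eq {K : Type u} [Field K] {A : Scheme.{u}} (q : A ⟶ Spec (CommRingCat.of K)) [LocallyOfFiniteType q]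
    (b : Spec (CommRingCat.of K)) :
    topologicalKrullDim A = ⨆ z : A, ((rd q z : ℕ∞) : WithBot ℕ∞) := by
  have h := dim_inter_eq_iSup q b (W := Set.univ) isOpen_univ isClosed_univ
  have hset : (Set.univ ∩ Set.univ ∩ q ⁻¹' {b} : Set A) = Set.univ := by
    ext z; simp [Subsingleton.elim (α := Spec (CommRingCat.of K)) (q z) b]
  rw [((Homeomorph.setCongr hset).trans (Homeomorph.Set.univ A)).isHomeomorph.topologicalKrullDim_eq] at h
  rw [h]
  exact (Equiv.trans (Equiv.setCongr hset) (Equiv.Set.univ A)).iSup_congr fun z => rfl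

theorem fibreDimAt_eq_dim {K : Type u} [Field K] {A : Scheme.{u}} [IrreducibleSpace A]
    (q : A ⟶ Spec (CommRingCat.of K)) [LocallyOfFiniteType q] {r : ℕ} (hr : topologicalKrullDim A = r) (x : A) :
    FlatMor.fibreDimAt q x = (r : WithBot ℕ∞) := by
  obtain ⟨z, -, -, hz, he⟩ := exists_fibMax_generization q x
  have hzg : z = genericPoint A :=
    (hz _ (genericPoint_specializes z) (Subsingleton.elim (α := Spec (CommRingCat.of K)) _ _)).symm
  have h := dim_closure_inter_fibre q z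
  have hset : closure ({z} : Set A) ∩ q ⁻¹' {q z} = Set.univ := by
    ext w
    simp [Subsingleton.elim (α := Spec (CommRingCat.of K)) (q w) (q z), hzg, (genericPoint_spec A).def]
  rw [((Homeomorph.setCongr hset).trans (Homeomorph.Set.univ A)).isHomeomorph.topologicalKrullDim_eq, hr] at h
  rw [he, ← h]

theorem dim_eq_of_fibreDimAt {K : Type u} [Field K] {A : Scheme.{u}} [Nonempty A]
    (q : A ⟶ Spec (CommRingCat.of K)) [LocallyOfFiniteType q] {d : ℕ}
    (h : ∀ x, FlatMor.fibreDimAt q x = (d : WithBot ℕ∞)) : topologicalKrullDim A = d := by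
  let x₀ := Classical.arbitrary A
  rw [dim_univ_eq q (q x₀)]
  refine le_antisymm (iSup_le fun z => (h z) ▸ rd_le_fibreDimAt q (specializes_refl z) rfl) ?_
  obtain ⟨z, -, -, -, he⟩ := exists_fibMax_generization q x₀
  rw [← h x₀, he]
  exact le_iSup (fun z : A => ((rd q z : ℕ∞) : WithBot ℕ∞)) z

end Dim

end Groth.Agent.Kleiman5
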